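import Cfsg.Agent.H18.EK.Siv
import Cfsg.Agent.H626.EK.Data

/-!
# S5745, socle `T ^ k` in cross characteristic, `T` sporadic: the families `F₄`, `E₆`, `²E₆` (helper18)

`spor_f4`, `spor_e6`, `spor_te6`: all `2 ≤ k ≤ dim / 2` for `q` even, `k ≤ 3` for `q` odd. The survivors are
`J₂ ^ 2` in `F₄(4)`, `F₄(5)` and `M₂₂ ^ 2` in `E₆(3)`.
-/

set_option autoImplicit false
set_option maxHeartbeats 4000000
set_option maxRecDepth 100000

namespace Cfsg.Agent.H18.EK

open Cfsg.Agent.H746.EK
open Cfsg.Agent.H626.EK (sporO)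

/-- `(t, Lc t, v₂ t, v₃ t)` -/
def tabS : List (ℕ × ℕ × ℕ × ℕ) :=
  [
   (7920, 1180782, 4, 2),
   (95040, 263096654, 6, 3),
   (443520, 12284320528, 7, 2),
   (10200960, 85078705608595, 7, 2),
   (244823040, 1161839824146208863, 10, 3),
   (175560, 938864925, 3, 1),
   (604800, 26403575918, 7, 3),
   (50232960, 9988599647273403, 7, 5),
   (86775571046077562880, 215585949250351294934087316365388129884754236960212054, 21, 3),
   (4157776806543360000, 7878565136423900831601518050555680368277884819698983, 21, 9),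
   (42305421312000, 125101331768759548739076491815915034033, 18, 6),
   (495766656000, 9561507406172574992750562711, 10, 7),
   (898128000, 56860639375088534644, 7, 6),
   (44352000, 6939969038255186, 9, 2),
   (448345497600, 7074653979509130896882271457, 13, 7),
   (4030387200, 5137720598400073648596, 10, 3),
   (145926144000, 342912297682013117884884610, 14, 3),
   (460815505920, 7678487647574025293413381306, 9, 4),
   (51765179004000000, 10884472780383034928308828156706245361593220, 8, 7),
   (64561751654400, 463676411830021209497232836771062454, 17, 9),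
   (4089470473293004800, 5366565648343429615999125079156242694570695954223, 18, 13),
   (1255205709190661721292800, 155181148462093177482650633419451624195053172583263283514355087186, 21, 16),
   (273030912000000, 1597091312167063101990708086191728813, 14, 6),
   (90745943887872000, 58637561862924700520829963564321565756572203, 15, 10),
   (4154781481226426191177580544000000, 16437443347659448028862791724125782397999448537901061120469053380139232491637344324800768764744173499171182762902159875902529566110906174171319444143199388203389, 41, 13),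
   (808017424794512875886459904961710757005754368000000000, 1744699142847717977959513641796679181329088764586081663414614774730996748629349704627005917895027595677714643402348136734708140095461921260228914718252286018459653028743452252191343070039240443280737959936000000000, 46, 20)]

theorem tabS_Lc : (tabS.all fun x => Nat.beq (Lc x.1) x.2.1) = true := by decide +kernel

theorem tabS_mem : ∀ t ∈ sporO, t ∈ tabS.map Prod.fst := by decide +kernel

/-- the survivors `(k, q)` -/
def surF : Fam → ℕ → List (ℕ × ℕ)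
  | .f4, t => if Nat.beq t 604800 then [(2, 4), (2, 5)] else []
  | .e6, t => if Nat.beq t 443520 then [(2, 3)] else []
  | _, _ => []

/-- the check of the whole table -/
def chkF (f : Fam) (K Ko : ℕ) : Bool :=
  tabS.all fun x => chkT f x.1 x.2.1 (2 * x.1) x.2.2.1 x.2.2.2 (surF f x.1) 600 Ko K

theorem chkF_mem {f : Fam} {K Ko : ℕ} (h : chkF f K Ko = true) {t : ℕ} (ht : t ∈ sporO) {k : ℕ} (h2 : 2 ≤ k)
    (hk : k ≤ K) {q : ℕ} (hq : IsPrimePow q) (ho : Odd q → k ≤ Ko) {C : ℕ} (hC : dn f q * C = nm f q)
    (hd : t ^ k ∣ C) (hB : C ≤ Bk t (2 * t) k) : (k, q) ∈ surF f t := by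
  obtain ⟨x, hx, rfl⟩ := List.mem_map.1 (tabS_mem t ht)
  exact chkT_mem (List.all_eq_true.1 h x hx) (Nat.eq_of_beq_eq_true (List.all_eq_true.1 tabS_Lc x hx)) h2 hk hq ho
    hC hd hB

theorem cF_f4 : chkF .f4 26 3 = true := by decide +kernel

theorem cF_e6 : chkF .e6 39 3 = true := by decide +kernel

theorem cF_te6 : chkF .te6 39 3 = true := by decide +kernel

/-- **`T` sporadic, `F₄(q)`** -/
theorem spor_f4 {t : ℕ} (ht : t ∈ sporO) {k : ℕ} (h2 : 2 ≤ k) (hk : k ≤ 26) {q : ℕ} (hq : IsPrimePow q)
    (ho : Odd q → k ≤ 3) {C : ℕ} (hC : dn .f4 q * C = nm .f4 q) (hd : t ^ k ∣ C) (hB : C ≤ Bk t (2 * t) k) :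
    t = 604800 ∧ k = 2 ∧ (q = 4 ∨ q = 5) := by
  have h := chkF_mem cF_f4 ht h2 hk hq ho hC hd hB
  simp only [surF] at h
  split_ifs at h with h1
  · rw [Nat.beq_eq] at h1
    simp only [List.mem_cons, Prod.mk.injEq, List.not_mem_nil, or_false] at h
    exact ⟨h1, by tauto, by tauto⟩
  · exact absurd h List.not_mem_nil

/-- **`T` sporadic, `E₆(q)`** -/
theorem spor_e6 {t : ℕ} (ht : t ∈ sporO) {k : ℕ} (h2 : 2 ≤ k) (hk : k ≤ 39) {q : ℕ} (hq : IsPrimePow q)
    (ho : Odd q → k ≤ 3) {C : ℕ} (hC : dn .e6 q * C = nm .e6 q) (hd : t ^ k ∣ C) (hB : C ≤ Bk t (2 * t) k) :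
    t = 443520 ∧ k = 2 ∧ q = 3 := by
  have h := chkF_mem cF_e6 ht h2 hk hq ho hC hd hB
  simp only [surF] at h
  split_ifs at h with h1
  · rw [Nat.beq_eq] at h1
    simp only [List.mem_cons, Prod.mk.injEq, List.not_mem_nil, or_false] at h
    exact ⟨h1, by tauto, by tauto⟩
  · exact absurd h List.not_mem_nil

/-- **`T` sporadic, `²E₆(q)`** -/
theorem spor_te6 {t : ℕ} (ht : t ∈ sporO) {k : ℕ} (h2 : 2 ≤ k) (hk : k ≤ 39) {q : ℕ} (hq : IsPrimePow q)
    (ho : Odd q → k ≤ 3) {C : ℕ} (hC : dn .te6 q * C = nm .te6 q) (hd : t ^ k ∣ C) (hB : C ≤ Bk t (2 * t) k) :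
    False :=
  absurd (chkF_mem cF_te6 ht h2 hk hq ho hC hd hB) List.not_mem_nil

end Cfsg.Agent.H18.EK

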